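import Groth.Agent.Lib.H1.AlmostSimple.Gen
import Groth.Prelude.Def_AGF
import Mathlib.LinearAlgebra.RootSystem.Finite.Lemmas

/-!
Exponents of an isogeny of root data with indecomposable roots.
-/

set_option autoImplicit false
set_option maxHeartbeats 800000
set_option linter.style.haveILetI false
set_option linter.unusedSectionVars false
universe u

open CategoryTheory MonoidalCategory CartesianMonoidalCategory MonObj GrpObj AlgebraicGeometry

namespace Groth.Agent.Lib.H1.AlmostSimple

variable {S S' : Scheme.{u}} [Nonempty S] {G : Over S} [GrpObj G] {G' : Over S'} [GrpObj G']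
  {D : Red.SplitRed G} {D' : Red.SplitRed G'} {p : ℕ}

/-- A predicate preserved by all reflections, transported along the orbit of `c`. -/
theorem exists_orbit_nonorth (hI : Indec D) (c a : D.idx) :
    ∃ o, D.P.pairing o a ≠ 0 ∧ ∀ {α : Type} (F : D.idx → α), (∀ x y, F (D.P.reflectionPerm y x) = F x) → F o = F c := by
  classical
  let O : Set D.idx := {o | ∀ {α : Type} (F : D.idx → α), (∀ x y, F (D.P.reflectionPerm y x) = F x) → F o = F c}
  by_contra hcon
  push Not at hcon
  let T : Set D.idx := {x | ∀ o ∈ O, D.P.pairing o x = 0}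
  have hT : ∀ x ∈ T, ∀ y ∉ T, D.P.pairing x y = 0 := by
    intro x hx y hy
    simp only [T, Set.mem_ofPred_eq, not_forall] at hy
    obtain ⟨o, ho, hoy⟩ := hy
    by_contra hxy
    have ho' : D.P.reflectionPerm y o ∈ O := fun F hF => (hF o y).trans (ho F hF)
    have h0 := hx _ ho'
    rw [← coroot_root_eq, D.P.root_reflectionPerm, D.P.reflection_apply, map_sub, map_smul] at h0
    have e : D.P.coroot' y (D.P.root o) = D.P.pairing o y := D.P.root_coroot'_eq_pairing y o
    rw [e, coroot_root_eq, coroot_root_eq, hx o ho, zero_sub, neg_eq_zero, smul_eq_mul] at h0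
    rcases mul_eq_zero.1 h0 with h | h
    · exact hoy h
    · exact hxy (pairing_zero_comm D h)
  have hc : c ∈ O := fun _ _ => rfl
  rcases hI.2 T hT with h | h
  · have : a ∈ T := fun o ho => by_contra fun hne => by
      obtain ⟨α, F, hF, hne'⟩ := hcon o hne
      exact hne' (ho F hF)
    rw [h] at this
    exact this
  · have : c ∈ T := by rw [h]; trivial
    have := this c hc
    rw [pairing_self] at this
    omega

theorem pairingIn_eq (i j : D.idx) : (haveI := Groth.Agent.H82.R2.crys D; D.P.pairingIn ℤ i j) = D.P.pairing i j := by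
  haveI := Groth.Agent.H82.R2.crys D
  exact D.P.algebraMap_pairingIn ℤ i j

variable (ρ : AGF.RootIsog D.P D'.P p)

theorem q_mul_pairing (a b : D.idx) :
    (ρ.q a : ℤ) * D.P.pairing a b = (ρ.q b : ℤ) * D'.P.pairing (ρ.e a) (ρ.e b) := by
  have h := LinearMap.congr_fun (ρ.coroot b) (D'.P.root (ρ.e a))
  rw [LinearMap.comp_apply, ρ.root, map_smul, LinearMap.smul_apply, coroot_root_eq, coroot_root_eq, smul_eq_mul,
    smul_eq_mul] at h
  exact h

theorem q_reflectionPerm (hp : 0 < p) (x y : D.idx) : ρ.q (D.P.reflectionPerm y x) = ρ.q x := by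
  classical
  obtain ⟨b⟩ := exists_base D
  haveI : D.P.IsReduced := Groth.Agent.H82.R2.reduced_of_base b
  haveI : IsAddTorsionFree D.M := .of_isTorsionFree ℤ D.M
  have hpos : ∀ a, (0 : ℤ) < ρ.q a := fun a => by
    obtain ⟨m, hm⟩ := ρ.q_pow a
    rw [hm]
    exact_mod_cast pow_pos hp m
  let r := ρ.e.symm (D'.P.reflectionPerm (ρ.e y) (ρ.e x))
  let z := D.P.reflectionPerm y x
  have h : (ρ.q r : ℤ) • D.P.root r = (ρ.q x : ℤ) • D.P.root z := by
    rw [← ρ.root, Equiv.apply_symm_apply, D'.P.root_reflectionPerm, D'.P.reflection_apply, map_sub, map_smul,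
      ρ.root, ρ.root, D'.P.root_coroot'_eq_pairing, D.P.root_reflectionPerm, D.P.reflection_apply, smul_sub,
      D.P.root_coroot'_eq_pairing, smul_smul, smul_smul, q_mul_pairing ρ, _root_.mul_comm]
  have hne : D.P.root r ≠ 0 := D.P.ne_zero r
  have hdep : ¬ LinearIndependent ℤ ![D.P.root r, D.P.root z] := by
    intro hli
    have := (LinearIndependent.pair_iff.1 hli (ρ.q r : ℤ) (-(ρ.q x : ℤ)) (by rw [h, neg_smul, add_neg_cancel])).1
    exact (hpos r).ne' this
  by_cases hrz : r = z
  · rw [hrz] at h
    have := smul_left_injective ℤ (D.P.ne_zero z) h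
    exact_mod_cast this
  · have e := RootPairing.IsReduced.eq_or_eq_neg (P := D.P) r z hdep
    rcases e with e | e
    · exact absurd (D.P.root.injective e) hrz
    · exfalso
      rw [e, smul_neg, ← neg_smul] at h
      have := smul_left_injective ℤ (D.P.ne_zero z) h
      have := hpos r; have := hpos x
      omega

/-- If one exponent is one, so is that of a root having a neighbour of smaller length. -/
theorem q_eq_one_of_long (hI : Indec D) (hp : 2 ≤ p) {a b c : D.idx} (hab : D.P.pairing a b = -(p : ℤ))
    (hba : D.P.pairing b a = -1) (hc : ρ.q c = 1) : ρ.q a = 1 := by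
  classical
  haveI : D.P.IsCrystallographic := Groth.Agent.H82.R2.crys D
  obtain ⟨bs⟩ := exists_base D
  haveI : D.P.IsReduced := Groth.Agent.H82.R2.reduced_of_base bs
  have hinv := fun x y => q_reflectionPerm ρ (by omega : 0 < p) x y
  let B := D.P.toInvariantForm
  let L : D.idx → ℤ := fun i => B.form (D.P.root i) (D.P.root i)
  have hL : ∀ i j, D.P.pairing j i * L i = D.P.pairing i j * L j := fun i j => B.pairing_mul_eq_pairing_mul_swap i j
  have hL0 : ∀ i, L i ≠ 0 := B.ne_zero
  have hLinv : ∀ x y, L (D.P.reflectionPerm y x) = L x := fun x y => by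
    simp only [L, D.P.root_reflectionPerm, B.apply_reflection_reflection]
  obtain ⟨o, ho, hO⟩ := exists_orbit_nonorth hI c a
  have hqo : ρ.q o = 1 := (hO ρ.q hinv).trans hc
  by_cases hoa : D.P.root o = D.P.root a
  · rw [← D.P.root.injective hoa]; exact hqo
  by_cases hoa' : D.P.root o = - D.P.root a
  · have : o = D.P.reflectionPerm a a := D.P.root.injective (by rw [hoa', Groth.Agent.H82.Borel.root_neg_idx])
    rw [this, hinv] at hqo
    exact hqo
  have hset := D.P.pairingIn_pairingIn_mem_set_of_isCrystal_of_isRed' o a hoa hoa'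
  simp only [Set.mem_insert_iff, Set.mem_singleton_iff, Prod.mk.injEq, pairingIn_eq] at hset
  have key := q_mul_pairing ρ o a
  rw [hqo, Nat.cast_one, _root_.one_mul] at key
  by_cases h1 : D.P.pairing o a = 1 ∨ D.P.pairing o a = -1
  · have hd : (ρ.q a : ℤ) ∣ D.P.pairing o a := ⟨_, key⟩
    have : (ρ.q a : ℤ) ∣ 1 := by rcases h1 with h1 | h1 <;> simpa [h1] using hd
    exact_mod_cast Int.eq_one_of_dvd_one (by positivity) this
  -- otherwise there would be three lengths
  exfalso
  have hr : L o = 2 * L a ∨ L o = 3 * L a := by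
    have e := hL o a
    rcases hset with h | h | h | h | h | h | h | h | h | h | h <;> obtain ⟨h2, h3⟩ := h <;>
      (first | (exact absurd h2 ho) | (exfalso; omega) | skip) <;> rw [h2, h3] at e <;> omega
  have hLa : L a = (p : ℤ) * L b := by
    have e := hL a b
    rw [hab, hba] at e
    linarith
  obtain ⟨o', ho', hO'⟩ := exists_orbit_nonorth hI b o
  have hLo' : L o' = L b := hO' L hLinv
  have hne1 : D.P.root o' ≠ D.P.root o := fun e => by
    have := D.P.root.injective e
    subst this
    rcases hr with hr | hr <;> rw [hLo', hLa] at hr <;> have := hL0 b <;>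
      · have h' : (1 : ℤ) = 2 * p ∨ (1 : ℤ) = 3 * p := by
          first
            | exact Or.inl (mul_right_cancel₀ this (by linarith))
            | exact Or.inr (mul_right_cancel₀ this (by linarith))
        omega
  have hne2 : D.P.root o' ≠ - D.P.root o := fun e => by
    have : o' = D.P.reflectionPerm o o := D.P.root.injective (by rw [e, Groth.Agent.H82.Borel.root_neg_idx])
    have hl : L b = L o := by rw [← hLo', this, hLinv]
    rcases hr with hr | hr <;> rw [← hl, hLa] at hr <;> have := hL0 b <;>
      · have h' : (1 : ℤ) = 2 * p ∨ (1 : ℤ) = 3 * p := by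
          first
            | exact Or.inl (mul_right_cancel₀ this (by linarith))
            | exact Or.inr (mul_right_cancel₀ this (by linarith))
        omega
  have hset' := D.P.pairingIn_pairingIn_mem_set_of_isCrystal_of_isRed' o' o hne1 hne2
  simp only [Set.mem_insert_iff, Set.mem_singleton_iff, Prod.mk.injEq, pairingIn_eq] at hset'
  have e := hL o' o
  obtain ⟨k, hk, hk'⟩ : ∃ k : ℤ, (k = 2 * p ∨ k = 3 * p) ∧ L o = k * L o' := by
    rcases hr with hr | hr
    · exact ⟨2 * p, Or.inl rfl, by rw [hr, hLa, hLo']; ring⟩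
    · exact ⟨3 * p, Or.inr rfl, by rw [hr, hLa, hLo']; ring⟩
  rw [hk'] at e
  have e' : D.P.pairing o o' = D.P.pairing o' o * k :=
    mul_right_cancel₀ (hL0 o') (by linarith)
  rcases hset' with h | h | h | h | h | h | h | h | h | h | h <;> obtain ⟨h2, h3⟩ := h <;>
    (first | (exact absurd h2 ho') | skip) <;> rw [h2, h3] at e' <;> omega

end Groth.Agent.Lib.H1.AlmostSimple
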