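import Groth.Agent.Lib.H1.AlmostSimple.Roots
import Groth.Agent.H82.R2.CorootChar.Kernel
import Groth.Agent.H82.R2.Dual
import Mathlib.Algebra.Category.Grp.Injective
import Mathlib.GroupTheory.Divisible

/-!
When the roots have full rank, the root groups generate.
-/

set_option autoImplicit false
set_option maxHeartbeats 800000
set_option linter.style.haveILetI false
set_option linter.unusedSectionVars false
universe u

open CategoryTheory MonoidalCategory CartesianMonoidalCategory MonObj GrpObj AlgebraicGeometry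
open Groth.Agent.Lib.RedPts Groth.Agent.H82.BigCell Groth.Agent.H82.Contract Groth.Agent.H82.Weyl
open Groth.Agent.H82.RankOne (P P_eq P_add P_zero P_neg P_comp Sys)
open Groth.Agent.H82.R2 (P_scl exists_dualC sys_of_dualC isMonHom_scl)

namespace Groth.Agent.Lib.H1.AlmostSimple

variable {S : Scheme.{u}} {G : Over S} [GrpObj G] {D : Red.SplitRed G}

/-- The coroot torus of `c` lies in any group containing the root elements of `±c`. -/
theorem coroot_mem (b : D.P.Base) (c : D.idx) {X : Over S} (H : Subgroup (X ⟶ G))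
    (h : ∀ x, P (D.u c) x ∈ H) (h' : ∀ x, P (D.u (D.P.reflectionPerm c c)) x ∈ H) (z : Γ(X.left, ⊤)ˣ) :
    (Gm.gmPt z ≫ cochar D (D.P.coroot c).toAddMonoidHom) ≫ D.i ∈ H := by
  obtain ⟨m, hm, hd⟩ := exists_dualC b c
  haveI := isMonHom_scl (S := S) m
  have e : (Gm.gmPt z ≫ cochar D (D.P.coroot c).toAddMonoidHom) ≫ D.i =
      Sys.H D.i (cochar D (D.P.coroot c).toAddMonoidHom) z := Category.assoc _ _ _
  rw [e, (sys_of_dualC hd).coroot_eq, P_scl, P_scl]
  refine mul_mem (mul_mem (mul_mem ?_ ?_) ?_) ?_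
  all_goals first | exact h _ | exact h' _

/-- Evaluation at all coroots. -/
noncomputable def evalAll (D : Red.SplitRed G) : D.M →+ (D.idx → ℤ) :=
  AddMonoidHom.mk' (fun m a => D.P.coroot a m) fun x y => by funext a; exact map_add (D.P.coroot a) x y

theorem evalAll_injective (h : FullRank D) : Function.Injective (evalAll D) :=
  (injective_iff_map_eq_zero _).2 fun _ hm => eq_zero_of_coroots D h fun a => congrFun hm a

/-- A torus point induced from a point of the torus of all coroots is a product of coroot values. -/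
theorem torus_mem_of_ext (b : D.P.Base) {X : Over S} (H : Subgroup (X ⟶ G))
    (hu : ∀ c x, P (D.u c) x ∈ H) (t : X ⟶ D.T) (χ : (D.idx → ℤ) →+ Additive Γ(X.left, ⊤)ˣ)
    (hχ : ∀ m, Red.gmFn (t ≫ chr D m) = ((Additive.toMul (χ (evalAll D m)) : Γ(X.left, ⊤)ˣ) : Γ(X.left, ⊤))) :
    t ≫ D.i ∈ H := by
  classical
  let co : D.idx → (X ⟶ D.T) := fun a =>
    Gm.gmPt (Additive.toMul (χ (Pi.single a (1 : ℤ)))) ≫ cochar D (D.P.coroot a).toAddMonoidHom
  let L := (Finset.univ : Finset D.idx).toList
  let ev : D.M → ((X ⟶ D.T) →* Γ(X.left, ⊤)ˣ) := fun m =>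
    MonoidHom.mk' (fun s => (Gm.isUnit_gmFn (s ≫ chr D m)).unit) fun s s' => Units.ext (by
      haveI := Groth.Agent.H82.R2.Cent.isMonHom_chr (D := D) m
      simp only [IsUnit.unit_spec, Units.val_mul, MonObj.mul_comp, Gm.gmFn_mul])
  have ht : t = (L.map co).prod := by
    refine Groth.Agent.H82.Reduced.eq_of_chr fun m => ?_
    suffices e : ev m t = ev m (L.map co).prod by simpa [ev] using congrArg Units.val e
    rw [map_list_prod, List.map_map, Finset.prod_map_toList]
    have h1 : χ (evalAll D m) = ∑ a, D.P.coroot a m • χ (Pi.single a (1 : ℤ)) := by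
      simp only [← map_zsmul, ← map_sum, ← Pi.single_smul, smul_eq_mul, _root_.mul_one, Finset.univ_sum_single]
      rfl
    refine Units.ext ?_
    simp only [ev, MonoidHom.mk'_apply, IsUnit.unit_spec]
    rw [hχ, h1, toMul_sum, Units.coe_prod, Units.coe_prod]
    refine Finset.prod_congr rfl fun a _ => ?_
    simp only [Function.comp_apply, MonoidHom.mk'_apply, IsUnit.unit_spec, co]
    rw [gmFn_cochar, toMul_zsmul]
    rfl
  rw [ht]
  clear ht
  induction L with
  | nil => rw [List.map_nil, List.prod_nil, MonObj.one_comp]; exact one_mem H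
  | cons a L ih =>
    rw [List.map_cons, List.prod_cons, MonObj.mul_comp]
    exact mul_mem (coroot_mem b a H (hu a) (hu _) _) ih

/-- With enough roots of unity, full rank puts the torus in any group containing all root elements. -/
theorem torus_mem_of_divisible (h : FullRank D) (b : D.P.Base) {X : Over S} (H : Subgroup (X ⟶ G))
    (hu : ∀ c x, P (D.u c) x ∈ H) (hdiv : ∀ n : ℕ, n ≠ 0 → Function.Surjective fun z : Γ(X.left, ⊤)ˣ => z ^ n)
    (t : X ⟶ D.T) : t ≫ D.i ∈ H := by
  classical
  let A := Additive Γ(X.left, ⊤)ˣ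
  letI : DivisibleBy A ℕ := divisibleByOfSMulRightSurj A ℕ fun {n} hn a => by
    obtain ⟨z, hz⟩ := hdiv n hn (Additive.toMul a)
    exact ⟨Additive.ofMul z, congrArg Additive.ofMul hz⟩
  letI : DivisibleBy A ℤ := AddGroup.divisibleByIntOfDivisibleByNat A
  let θ : D.M →+ A := AddMonoidHom.mk' (fun m => Additive.ofMul (Gm.isUnit_gmFn (t ≫ chr D m)).unit) fun a c => by
    rw [← ofMul_mul]
    refine congrArg Additive.ofMul (Units.ext ?_)
    simp only [IsUnit.unit_spec, Units.val_mul, chr]
    simp only [← Category.assoc, Gm.gmFn_chi, Gm.dsFn_add]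
  obtain ⟨χ, hχ⟩ := (Module.Baer.of_divisible A).extension_property_addMonoidHom _ (evalAll_injective h) θ
  exact torus_mem_of_ext b H hu t χ fun m => by
    have := DFunLike.congr_fun hχ m
    simp only [AddMonoidHom.comp_apply] at this
    rw [this]
    rfl

theorem prod_mem {X : Over S} (H : Subgroup (X ⟶ G)) (hu : ∀ c x, P (D.u c) x ∈ H) {k : ℕ} (d : Fin k → D.idx)
    (w : X ⟶ RedSub.pow (Red.Ga S) k) : (w ≫ RedSub.prodMap (Red.Ga S) k fun i => D.u (d i)) ∈ H := by
  rw [comp_prodMap]
  refine Groth.Agent.H82.Bruhat.prodPts_mem_subgroup fun i => ?_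
  rw [← Category.assoc, P_eq]
  exact hu _ _

theorem cell_mem {X : Over S} (H : Subgroup (X ⟶ G)) (hu : ∀ c x, P (D.u c) x ∈ H)
    (hT : ∀ t : X ⟶ D.T, t ≫ D.i ∈ H) {n m : ℕ} (e : Fin n → D.idx) (e' : Fin m → D.idx)
    (z : X ⟶ RedSub.pow (Red.Ga S) n ⊗ (D.T ⊗ RedSub.pow (Red.Ga S) m)) : z ≫ RedSub.cellMap D e e' ∈ H :=
  (comp_cellMap (e := e) e' z).symm ▸ mul_mem (prod_mem H hu e _) (mul_mem (hT _) (prod_mem H hu e' _))

/-- A subgroup scheme containing the root groups of a group with roots of full rank is everything. -/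
theorem isIso_of_roots [Nonempty S] [IsReduced G.left] (h : FullRank D) {H : Over S} [GrpObj H] (iH : H ⟶ G)
    [IsMonHom iH] [IsClosedImmersion iH.left] (hu : ∀ a : D.idx, ∃ f : Red.Ga S ⟶ H, f ≫ iH = D.u a) :
    IsIso iH := by
  classical
  haveI : Mono iH := mono_of_isClosedImmersion _ ‹_›
  obtain ⟨b⟩ := exists_base D
  have hP : ∀ (X : Over S) (c : D.idx) (x : Γ(X.left, ⊤)), P (D.u c) x ∈ Groth.Agent.H82.R2.Gen.pts (h := iH) X :=
    fun X c x => by
      obtain ⟨f, hf⟩ := hu c
      exact ⟨Ga.gaPt x ≫ f, by rw [Category.assoc, hf]; rfl⟩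
  obtain ⟨hfl, hsu⟩ := Groth.Agent.H87.Loci.ff_DSmap S (evalAll_injective h)
  haveI := hfl
  haveI := hsu
  let E : Red.DS S (D.idx → ℤ) ⟶ Red.DS S D.M := Red.DSmap S (evalAll D)
  haveI : Flat E.left := hfl
  haveI : Surjective E.left := hsu
  haveI := Groth.Agent.H82.R2.CorootChar.isAffineHom_DS (S := S) (D.idx → ℤ)
  haveI := Groth.Agent.H82.R2.CorootChar.isAffineHom_DS (S := S) D.M
  haveI : IsAffineHom E.left := by
    haveI : IsAffineHom (E.left ≫ (Red.DS S D.M).hom) := by rw [Over.w]; infer_instance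
    exact MorphismProperty.of_postcomp (W := @IsAffineHom) (W' := @IsSeparated) E.left (Red.DS S D.M).hom
      inferInstance this
  let c : Red.DS S (D.idx → ℤ) ⟶ D.T := E ≫ D.split.inv.hom.hom
  have hT : ∀ {X : Over S} (t : X ⟶ D.T), t ≫ D.i ∈ Groth.Agent.H82.R2.Gen.pts (h := iH) X := by
    let W := Red.DS S (D.idx → ℤ)
    have huniv : c ≫ D.i ∈ Groth.Agent.H82.R2.Gen.pts (h := iH) W := by
      refine torus_mem_of_ext b _ (hP W) c
        (AddMonoidHom.mk' (fun f => Additive.ofMul (Gm.isUnit_dsFn (𝟙 W) f).unit) fun f g => by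
          rw [← ofMul_mul]
          exact congrArg Additive.ofMul (Units.ext (Gm.dsFn_add _ _ _))) fun m => ?_
      show Red.gmFn ((E ≫ D.split.inv.hom.hom) ≫ D.split.hom.hom.hom ≫ Red.chi S m) = Gm.dsFn (𝟙 W) (evalAll D m)
      rw [Category.assoc, ← Category.assoc D.split.inv.hom.hom, split_inv_hom, Category.id_comp, Gm.gmFn_chi,
        ← Category.id_comp E]
      exact Gm.dsFn_DSmap _ _ _
    haveI : IsIso D.split.inv.hom.hom := ⟨D.split.hom.hom.hom, split_inv_hom D, split_hom_inv D⟩
    haveI : IsIso D.split.inv.hom.hom.left := ((Over.forget S).mapIso (asIso D.split.inv.hom.hom)).isIso_hom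
    haveI : Flat c.left := by rw [Over.comp_left]; infer_instance
    haveI : Surjective c.left := by rw [Over.comp_left]; infer_instance
    haveI : QuasiCompact c.left := by rw [Over.comp_left]; infer_instance
    obtain ⟨v, hv⟩ := huniv
    obtain ⟨w, hw⟩ := Groth.Agent.H82.R2.Gen.exists_desc iH c D.i v hv
    exact fun {X} t => ⟨t ≫ w, by rw [Category.assoc, hw]⟩
  obtain ⟨l, hl⟩ := exists_regular_functional D
  obtain ⟨n, m, e, e', -, -, -, -, ho⟩ := exists_cell hl
  haveI := ho
  obtain ⟨X', d, z, z', -, hds, hcz⟩ := exists_two_cells (e := e) (e' := e') (𝟙 G)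
  obtain ⟨v, hv⟩ := mul_mem (cell_mem _ (hP X') (fun t => hT t) e e' z) (cell_mem _ (hP X') (fun t => hT t) e e' z')
  rw [← hcz, Category.comp_id] at hv
  haveI : Surjective iH.left := by
    haveI : Surjective (v.left ≫ iH.left) := by rw [← Over.comp_left, hv]; exact hds
    exact Surjective.of_comp v.left iH.left
  haveI : IsIso iH.left := isIso_of_isClosedImmersion_of_surjective iH.left
  haveI : IsIso ((Over.forget S).map iH) := this
  exact isIso_of_reflects_iso iH (Over.forget S)

end Groth.Agent.Lib.H1.AlmostSimple
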