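import Groth.Agent.Lib.H1.AlmostSimple.Roots
import Groth.Agent.H82.Bruhat.Setup

/-!
Words in the reflections: they preserve the root form, and act trivially if they fix all roots.
-/

set_option autoImplicit false
set_option linter.style.haveILetI false
set_option linter.unusedSectionVars false
universe u

open CategoryTheory MonoidalCategory CartesianMonoidalCategory MonObj GrpObj AlgebraicGeometry
open Groth.Agent.H82.Weyl

namespace Groth.Agent.Lib.H1.AlmostSimple

variable {S : Scheme.{u}} {G : Over S} [GrpObj G] {D : Red.SplitRed G}

theorem rootForm_wmap (L : List D.idx) (x y : D.M) :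
    D.P.RootForm (wmap D L x) (wmap D L y) = D.P.RootForm x y := by
  induction L with
  | nil => rw [wmap_nil]; rfl
  | cons a L ih =>
    rw [wmap_cons]
    exact (D.P.rootForm_reflection_reflection_apply a _ _).trans ih

theorem wmap_sub_mem_span (L : List D.idx) (m : D.M) :
    wmap D L m - m ∈ Submodule.span ℤ (Set.range D.P.root) := by
  induction L with
  | nil => rw [wmap_nil]; simp
  | cons a L ih =>
    rw [wmap_cons]
    have h : D.P.reflection a (wmap D L m) - wmap D L m ∈ Submodule.span ℤ (Set.range D.P.root) := by
      rw [D.P.reflection_apply, sub_sub_cancel_left]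
      exact Submodule.neg_mem _ (Submodule.smul_mem _ _ (Submodule.subset_span (Set.mem_range_self a)))
    have := Submodule.add_mem _ h ih
    rwa [sub_add_sub_cancel] at this

/-- A word fixing all roots acts trivially. -/
theorem wmap_eq_id_of_fixed (L : List D.idx) (h : ∀ c, RedSub.wordPerm D.P L c = c) :
    wmap D L = AddMonoidHom.id D.M := by
  refine AddMonoidHom.ext fun m => sub_eq_zero.1 ?_
  set r := wmap D L m - m
  have hr := wmap_sub_mem_span L m
  have hfix : ∀ x ∈ Submodule.span ℤ (Set.range D.P.root), wmap D L x = x := fun x hx => by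
    induction hx using Submodule.span_induction with
    | mem x hx => obtain ⟨a, rfl⟩ := hx; rw [Groth.Agent.H82.Bruhat.wmap_root, h]
    | zero => simp
    | add x y _ _ hx hy => rw [map_add, hx, hy]
    | smul c x _ hx => rw [map_zsmul, hx]
  have hrr : D.P.RootForm r r = 0 := by
    have h2 := rootForm_wmap L m r
    rw [hfix r hr] at h2
    have e : D.P.RootForm r r = D.P.RootForm (wmap D L m) r - D.P.RootForm m r := by
      rw [← LinearMap.sub_apply, ← map_sub]
    rw [e, h2, sub_self]
  exact D.P.eq_zero_of_mem_rootSpan_of_rootForm_self_eq_zero hr hrr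

end Groth.Agent.Lib.H1.AlmostSimple
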