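import Groth.Agent.Lib.H1.AlmostSimple.Gen
import Groth.Agent.Lib.H1.AlmostSimple.WordFix
import Groth.Agent.Lib.ActSep.Orbit
import Groth.Agent.H82.Bruhat.Cover
import Groth.Agent.H82.Bruhat.Range
import Groth.Agent.H82.R2.Iso.Ker
import Groth.Agent.H82.Borel.Maximal
import Groth.Agent.H82.Reduced.Apply

/-!
Normal subgroups of the group of geometric points of a split reductive group.
-/

set_option autoImplicit false
set_option maxHeartbeats 1000000
set_option linter.style.haveILetI false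
set_option linter.unusedSectionVars false
universe u

open CategoryTheory MonoidalCategory CartesianMonoidalCategory MonObj GrpObj AlgebraicGeometry
open Groth.Agent.Lib.RedPts Groth.Agent.H82.BigCell Groth.Agent.H82.Contract Groth.Agent.H82.Weyl
open Groth.Agent.H82.RankOne (P P_eq P_add P_zero P_neg P_comp)
open Groth.Agent.H82.Borel (IsACPt root_neg_idx)
open Groth.Agent.H82.Bruhat (Adapted unip bor stab InCell rp)

namespace Groth.Agent.Lib.H1.AlmostSimple

variable {S : Scheme.{u}} {G : Over S} [GrpObj G] {D : Red.SplitRed G}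

variable (D) in
theorem exists_nr : ∃ nr : D.idx → (𝟙_ (Over S) ⟶ G), RedSub.RealisesReflections D nr :=
  ⟨fun a => (D.refl a).choose, fun a X t => (D.refl a).choose_spec X t⟩

theorem P_ne_one [Nonempty S] {X : Over S} (c : D.idx) {x : Γ(X.left, ⊤)} (hx : x ≠ 0) : P (D.u c) x ≠ 1 := by
  intro h
  obtain ⟨l, hl⟩ := exists_regular_functional D
  let m : D.M →+ ℤ := if 0 < l (D.P.root c) then l else -l
  have hm : 0 < m (D.P.root c) := by
    simp only [m]
    split
    · assumption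
    · have := hl c
      simp only [AddMonoidHom.neg_apply]
      omega
  haveI := Groth.Agent.H82.R2.CorootChar.isAffineHom_DS (S := S) D.M
  haveI := isAffineHom D
  haveI := mono_of_isClosedImmersion _ (mono_prodMap_pos (D := D) (e := fun _ : Fin 1 => c)
    (Function.injective_of_subsingleton _) (l := m) fun _ => hm)
  have := uniq_coords (D := D) (d := fun _ : Fin 1 => c) (fun _ => x) (fun _ => 0) (by
    simp only [prodPts_succ, prodPts_zero, _root_.mul_one, h, P_zero])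
  exact hx (congrFun this 0)

/-- Every geometric point is a product of two points of the cell. -/
theorem exists_two_cells_pt [LocallyOfFiniteType G.hom] {n m : ℕ} {e : Fin n → D.idx} {e' : Fin m → D.idx}
    [IsOpenImmersion (RedSub.cellMap D e e').left] {K : Type u} [Field K] [IsAlgClosed K]
    (f : Spec (CommRingCat.of K) ⟶ S) (g : Over.mk f ⟶ G) :
    ∃ z z', g = (z ≫ RedSub.cellMap D e e') * (z' ≫ RedSub.cellMap D e e') := by
  haveI := D.reductive.2.1
  let Y : Over S := Over.mk f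
  have hY : IsACPt Y := Groth.Agent.H82.Borel.isACPt_mk K f
  haveI : IrreducibleSpace (G ⊗ Y).left := Groth.Agent.Lib.ActSep.irreducibleSpace_geomFibre
    (isConnected_fibre D) f
  let V := (RedSub.cellMap D e e').left.opensRange
  let b₁ : (G ⊗ Y : Over S) ⟶ G := (fst G Y)⁻¹ * (snd G Y ≫ g)
  let E : (G ⊗ Y).left.Opens := (fst G Y).left ⁻¹ᵁ V ⊓ b₁.left ⁻¹ᵁ V
  let y₀ : Y.left := IsLocalRing.closedPoint K
  have h1 : ∀ (a : Y ⟶ G), a = 1 → a.left y₀ ∈ V := by
    rintro a rfl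
    have := range_torus_subset (D := D) (e := e) (e' := e') (1 : Y ⟶ D.T)
    rw [MonObj.one_comp] at this
    exact this ⟨y₀, rfl⟩
  have hA₁ : ((fst G Y).left ⁻¹ᵁ V : Set (G ⊗ Y).left).Nonempty := by
    refine ⟨(lift (1 : Y ⟶ G) (𝟙 Y)).left y₀, ?_⟩
    show (fst G Y).left ((lift (1 : Y ⟶ G) (𝟙 Y)).left y₀) ∈ V
    rw [← Scheme.Hom.comp_apply, ← Over.comp_left]
    exact h1 _ (lift_fst _ _)
  have hA₂ : (b₁.left ⁻¹ᵁ V : Set (G ⊗ Y).left).Nonempty := by
    refine ⟨(lift g (𝟙 Y)).left y₀, ?_⟩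
    show b₁.left ((lift g (𝟙 Y)).left y₀) ∈ V
    rw [← Scheme.Hom.comp_apply, ← Over.comp_left]
    refine h1 _ ?_
    simp only [b₁, MonObj.comp_mul, GrpObj.comp_inv, lift_fst, lift_snd_assoc]
    rw [Category.id_comp, inv_mul_cancel]
  have hE : (E : Set (G ⊗ Y).left).Nonempty := nonempty_preirreducible_inter ((fst G Y).left ⁻¹ᵁ V).2
    (b₁.left ⁻¹ᵁ V).2 hA₁ hA₂
  obtain ⟨p, hp⟩ := Groth.Agent.Lib.ActSep.exists_pt_mem f hE E.2.isLocallyClosed
  have key : ∀ (c : G ⊗ Y ⟶ G) (q : Y ⟶ G), lift p (𝟙 Y) ≫ c = q →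
      c.left ((lift p (𝟙 Y)).left y₀) ∈ V → ∃ z, z ≫ RedSub.cellMap D e e' = q := fun c q hc hmem => by
    refine exists_factor _ q ?_
    rintro _ ⟨o, rfl⟩
    haveI := hY.single
    rw [Subsingleton.elim o y₀, ← hc, Over.comp_left, Scheme.Hom.comp_apply]
    exact hmem
  obtain ⟨z, hz⟩ := key (fst G Y) p (lift_fst _ _) hp.1
  obtain ⟨z', hz'⟩ := key b₁ (p⁻¹ * g) (by
    simp only [b₁, MonObj.comp_mul, GrpObj.comp_inv, lift_fst, lift_snd_assoc]
    rw [Category.id_comp]) hp.2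
  exact ⟨z, z', by rw [hz, hz', mul_inv_cancel_left]⟩

/-- Every geometric point lies in the union of the Bruhat cells. -/
theorem exists_inCell_pt [Nonempty S] [LocallyOfFiniteType G.hom] {b : D.P.Base} {l : D.M →+ ℤ} (hA : Adapted b l)
    {nr : D.idx → (𝟙_ (Over S) ⟶ G)} (hnr : RedSub.RealisesReflections D nr)
    {K : Type u} [Field K] [IsAlgClosed K] (f : Spec (CommRingCat.of K) ⟶ S) (g : Over.mk f ⟶ G) :
    ∃ L, InCell (D := D) nr l L g := by
  haveI : D.P.IsCrystallographic := Groth.Agent.H82.R2.crys D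
  haveI : D.P.IsReduced := Groth.Agent.H82.R2.reduced_of_base b
  have hY : IsACPt (Over.mk f) := Groth.Agent.H82.Borel.isACPt_mk K f
  obtain ⟨n, m, e, e', -, -, -, -, ho⟩ := exists_cell hA.ne
  haveI := ho
  obtain ⟨z, z', hzz⟩ := exists_two_cells_pt (e := e) (e' := e') f g
  have hst : g ∈ stab (D := D) nr l (Over.mk f) := by
    rw [hzz]
    exact mul_mem (Groth.Agent.H82.Bruhat.cellPt_stab hA hnr hY e e' _)
      (Groth.Agent.H82.Bruhat.cellPt_stab hA hnr hY e e' _)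
  obtain ⟨L, hL⟩ := hst 1 ⟨[], Groth.Agent.H82.Bruhat.inCell_one (Over.mk f)⟩
  rw [_root_.mul_one] at hL
  exact ⟨L, hL⟩

theorem rp_append (nr : D.idx → (𝟙_ (Over S) ⟶ G)) (L M : List D.idx) (X : Over S) :
    rp (D := D) nr (L ++ M) X = rp nr L X * rp nr M X := by
  simp [rp, MonObj.comp_mul]

variable (D) in
/-- A central point of the torus. -/
def IsCentralPt {Y : Over S} (g : Y ⟶ G) : Prop :=
  ∃ τ : Y ⟶ D.T, τ ≫ D.i = g ∧ ∀ a, Red.gmFn (τ ≫ chr D (D.P.root a)) = 1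

theorem conj_torus (a : D.idx) {Y : Over S} (t : Y ⟶ D.T) (x : Γ(Y.left, ⊤)) :
    (t ≫ D.i) * P (D.u a) x * (t ≫ D.i)⁻¹ = P (D.u a) (Red.gmFn (t ≫ chr D (D.P.root a)) * x) :=
  mul_inv_eq_iff_eq_mul.2 (isRootPts D a t x)

theorem isCentralPt_commute [Nonempty S] {K : Type u} [Field K] [IsAlgClosed K] [LocallyOfFiniteType G.hom]
    (f : Spec (CommRingCat.of K) ⟶ S) {g : Over.mk f ⟶ G} (hg : IsCentralPt D g) (v : Over.mk f ⟶ G) :
    g * v = v * g := by
  obtain ⟨τ, rfl, hτ⟩ := hg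
  obtain ⟨b⟩ := exists_base D
  obtain ⟨l, hA⟩ := Groth.Agent.H82.Bruhat.exists_adapted b
  obtain ⟨nr, hnr⟩ := exists_nr D
  refine commute_all (D := D) (fun Y q t => ?_) (fun a Y q x => ?_) v
  · rw [← Category.assoc, ← MonObj.mul_comp, ← MonObj.mul_comp, torus_comm D]
  · have h := conj_torus a (q ≫ τ) (Red.gaFn x)
    have hq : Red.gmFn ((q ≫ τ) ≫ chr D (D.P.root a)) = 1 := by
      rw [Category.assoc, Gm.gmFn_comp, hτ, map_one]
    rw [hq, _root_.one_mul, mul_inv_eq_iff_eq_mul, Category.assoc, ← P_eq] at h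
    exact h.symm

/-- A normal subgroup of the geometric points contains a root element or is central. -/
theorem root_or_central [Nonempty S] [LocallyOfFiniteType G.hom] {b : D.P.Base} {l : D.M →+ ℤ}
    (hA : Adapted b l) {K : Type u} [Field K] [IsAlgClosed K] (f : Spec (CommRingCat.of K) ⟶ S)
    (H : Subgroup (Over.mk f ⟶ G)) [hN : H.Normal] {g : Over.mk f ⟶ G} (hgH : g ∈ H) :
    (∃ (a : D.idx) (x : Γ((Over.mk f).left, ⊤)), x ≠ 0 ∧ P (D.u a) x ∈ H) ∨ IsCentralPt D g := by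
  classical
  haveI : D.P.IsCrystallographic := Groth.Agent.H82.R2.crys D
  haveI : D.P.IsReduced := Groth.Agent.H82.R2.reduced_of_base b
  haveI := isAffineHom D
  obtain ⟨nr, hnr⟩ := exists_nr D
  let Y : Over S := Over.mk f
  have hY : IsACPt Y := Groth.Agent.H82.Borel.isACPt_mk K f
  haveI := hY.aff
  haveI := hY.infinite
  haveI := hY.isField.nontrivial
  haveI := hY.isField.isDomain
  -- reduction to the upper triangular group
  obtain ⟨L₀, -, hL₀⟩ := Groth.Agent.H82.R2.Iso.exists_long hA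
  obtain ⟨L, u, v, hu, hv, huv⟩ := exists_inCell_pt hA hnr f ((rp nr L₀ Y)⁻¹ * g)
  have hu' : rp nr L₀ Y * u * (rp nr L₀ Y)⁻¹ ∈ unip (D := D) l Y := by
    obtain ⟨m, d, hd⟩ := Groth.Agent.H82.Borel.exists_enum (D := D) {a | 0 < (-l) (D.P.root a)}
    obtain ⟨z, hz⟩ := Groth.Agent.H82.Bruhat.exists_prod_unip (fun c => by simpa using hA.ne c) d hd hu
    refine Groth.Agent.H82.Bruhat.conj_mem_of_roots hnr L₀ _ (fun c => l (D.P.root c) < 0) (fun c hc x => ?_) ?_
    · refine Groth.Agent.H82.Bruhat.root_mem_unip ?_ x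
      have h := hL₀ (D.P.reflectionPerm c c) (by rw [root_neg_idx, map_neg]; omega)
      rw [Groth.Agent.H82.Bruhat.wordPerm_neg, map_neg] at h
      omega
    · rw [hz]
      refine Groth.Agent.H82.Bruhat.prodPts_mem_subgroup fun k => Subgroup.subset_closure ⟨d k, z k, ?_, rfl⟩
      have : 0 < (-l) (D.P.root (d k)) := Set.ext_iff.1 hd.2 _ |>.1 (Set.mem_range_self k)
      simpa using this
  set L' := L₀ ++ L
  set n := rp nr L' Y with hn
  set b' := v * (rp nr L₀ Y * u * (rp nr L₀ Y)⁻¹) with hb'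
  have hb'bor : b' ∈ bor (D := D) l Y := mul_mem hv (Groth.Agent.H82.Bruhat.unip_le_bor l Y hu')
  have hg' : v * g * v⁻¹ = b' * n := by
    rw [hb', hn, rp_append, show g = rp nr L₀ Y * ((rp nr L₀ Y)⁻¹ * g) by group, huv]
    group
    rfl
  have hg'H : b' * n ∈ H := hg' ▸ hN.conj_mem g hgH v
  -- a point with a limit
  have borcase : ∀ h ∈ H, h ∈ bor (D := D) l Y →
      (∃ (a : D.idx) (x : Γ(Y.left, ⊤)), x ≠ 0 ∧ P (D.u a) x ∈ H) ∨ IsCentralPt D h := by
    rintro h hh ⟨Lh, hLh⟩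
    obtain ⟨τ, hτ⟩ := exists_torus_of_regular hA.ne (Groth.Agent.H82.Borel.commutes_of_isLimPt hLh)
    subst hτ
    set w := (τ ≫ D.i)⁻¹ * h with hw
    have hwu : w ∈ unip (D := D) l Y := by
      have := (isLimPt_torus_pt (l := l) τ).inv.mul hLh
      rwa [inv_mul_cancel] at this
    obtain ⟨n₁, e, he⟩ := Groth.Agent.H82.Borel.exists_enum (D := D) {a | 0 < (-l) (D.P.root a)}
    obtain ⟨m, e', he'⟩ := Groth.Agent.H82.Borel.exists_enum (D := D) {a | 0 < l (D.P.root a)}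
    obtain ⟨h1, h2, ho⟩ := Groth.Agent.H82.Bruhat.isOpenImmersion_cell (l := l) hA.ne he he'
    haveI := ho
    haveI := mono_of_isClosedImmersion _ (mono_prodMap_pos (D := D) he'.1 h2)
    obtain ⟨z, hz⟩ := Groth.Agent.H82.Bruhat.exists_prod_unip hA.ne e' he' hwu
    by_cases hz0 : z = 0
    · have hw1 : w = 1 := by
        rw [hz]
        exact prodPts_one fun k => by rw [hz0]; exact P_zero _
      have hht : h = τ ≫ D.i := by rwa [hw, inv_mul_eq_one, eq_comm] at hw1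
      by_cases hc : ∀ a, Red.gmFn (τ ≫ chr D (D.P.root a)) = 1
      · exact Or.inr ⟨τ, hht.symm, hc⟩
      · push Not at hc
        obtain ⟨a, ha⟩ := hc
        refine Or.inl ⟨a, 1 - Red.gmFn (τ ≫ chr D (D.P.root a)), sub_ne_zero.2 (Ne.symm ha), ?_⟩
        have hmem := mul_mem (hN.conj_mem h hh (P (D.u a) 1)) (inv_mem hh)
        haveI : IsMonHom (D.u a) := (D.rootHom a).1
        rw [sub_eq_add_neg, P_add, show -Red.gmFn (τ ≫ chr D (D.P.root a)) =
          Red.gmFn (τ ≫ chr D (D.P.root a)) * (-1 : Γ(Y.left, ⊤)) by ring, ← conj_torus a τ, P_neg, ← hht]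
        simpa only [_root_.mul_assoc] using hmem
    · obtain ⟨k, hk⟩ : ∃ k, z k ≠ 0 := by
        by_contra hall; push Not at hall; exact hz0 (funext hall)
      obtain ⟨s, hs⟩ := Groth.Agent.H82.Borel.exists_unit_zpow_ne hY.isField _ (h2 k).ne'
      let t : Y ⟶ D.T := Gm.gmPt s ≫ cochar D l
      set w' := (t ≫ D.i) * w * (t ≫ D.i)⁻¹ * w⁻¹ with hw'
      have hw'H : w' ∈ H := by
        have e1 : w' = (τ ≫ D.i)⁻¹ * ((t ≫ D.i) * h * (t ≫ D.i)⁻¹ * h⁻¹) * (τ ≫ D.i)⁻¹⁻¹ := by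
          have ht : (t ≫ D.i) * (τ ≫ D.i) = (τ ≫ D.i) * (t ≫ D.i) := by
            rw [← MonObj.mul_comp, ← MonObj.mul_comp, torus_comm D]
          rw [hw', hw, _root_.inv_inv, _root_.mul_inv_rev, _root_.inv_inv]
          calc _ = ((τ ≫ D.i)⁻¹ * (τ ≫ D.i)) * ((t ≫ D.i) * (τ ≫ D.i)⁻¹) * h * (t ≫ D.i)⁻¹ * h⁻¹ * (τ ≫ D.i) := by group
            _ = _ := by
              rw [show (t ≫ D.i) * (τ ≫ D.i)⁻¹ = (τ ≫ D.i)⁻¹ * (t ≫ D.i) by
                rw [eq_inv_mul_iff_mul_eq, ← _root_.mul_assoc, mul_inv_eq_iff_eq_mul, ht]]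
              group
        rw [e1]
        exact hN.conj_mem _ (mul_mem (hN.conj_mem h hh _) (inv_mem hh)) _
      have hw'u : w' ∈ unip (D := D) l Y :=
        mul_mem (Groth.Agent.H82.Bruhat.torus_conj_unip l t hwu) (inv_mem hwu)
      have hw'1 : w' ≠ 1 := by
        intro h1'
        rw [hw', mul_inv_eq_one, hz, Groth.Agent.H82.R2.Iso.conj_prodPts] at h1'
        have h3 : (fun j => (t ≫ D.i) * P (D.u (e' j)) (z j) * (t ≫ D.i)⁻¹) =
            fun j => P (D.u (e' j)) (Red.gmFn (t ≫ chr D (D.P.root (e' j))) * z j) :=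
          funext fun j => conj_torus _ t _
        rw [h3] at h1'
        have h4 := congrFun (uniq_coords (D := D) (d := e') _ _ h1') k
        rw [gmFn_cochar] at h4
        exact hs (mul_right_cancel₀ hk (h4.trans (_root_.one_mul _).symm))
      obtain ⟨z', hz'⟩ := Groth.Agent.H82.Bruhat.exists_prod_unip hA.ne e' he' hw'u
      have hT : ∀ {p q : Y ⟶ G}, p ∈ H → q * p * q⁻¹ ∈ H := fun hp => hN.conj_mem _ hp _
      -- enlarge by the torus
      let H' : Subgroup (Y ⟶ G) := H ⊔ Subgroup.closure (Set.range fun t : Y ⟶ D.T => t ≫ D.i)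
      obtain ⟨a, x, hx, hxa, hxH⟩ := Groth.Agent.H82.Borel.exists_root_mem (D := D) (e := e) (e' := e') b
        (fun a ha => (hA.pos a).1 ha) (fun a ha => (hA.neg a).1 ha) h1 he'.1 h2 hY.isField hY.small H'
        (fun t => Subgroup.mem_sup_right (Subgroup.subset_closure ⟨t, rfl⟩)) (Subgroup.mem_sup_left hw'H) hw'1
        (z := tuple m fun j => Ga.gaPt (z' j)) ((Groth.Agent.H82.Reduced.prodPts_tuple e' z').trans hz'.symm)
      refine Or.inl ?_
      -- a root element in the enlarged group gives one in `H`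
      obtain ⟨s', hs'⟩ := Groth.Agent.H82.Borel.exists_unit_zpow_ne hY.isField _ (ne_of_gt hx)
      let t' : Y ⟶ D.T := Gm.gmPt s' ≫ cochar D l
      refine ⟨a, (Red.gmFn (t' ≫ chr D (D.P.root a)) - 1) * x,
        mul_ne_zero (sub_ne_zero.2 (by rw [gmFn_cochar]; exact hs')) hxa, ?_⟩
      haveI : IsMonHom (D.u a) := (D.rootHom a).1
      rw [sub_mul, _root_.one_mul, sub_eq_add_neg, P_add, P_neg, ← conj_torus]
      obtain ⟨p, hp, q, hq, hpq⟩ := Subgroup.mem_sup_of_normal_left.1 hxH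
      have hqT : ∀ r : Y ⟶ D.T, (r ≫ D.i) * q = q * (r ≫ D.i) := by
        intro r
        clear hpq
        induction hq using Subgroup.closure_induction with
        | mem q hq => obtain ⟨r', rfl⟩ := hq; rw [← MonObj.mul_comp, ← MonObj.mul_comp, torus_comm D]
        | one => simp
        | mul x y _ _ hx hy => rw [← _root_.mul_assoc, hx, _root_.mul_assoc, hy, ← _root_.mul_assoc]
        | inv x _ hx => rw [eq_inv_mul_iff_mul_eq, ← _root_.mul_assoc, ← hx, mul_inv_cancel_right]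
      rw [← hpq, show (t' ≫ D.i) * (p * q) * (t' ≫ D.i)⁻¹ * (p * q)⁻¹ =
        ((t' ≫ D.i) * p * (t' ≫ D.i)⁻¹) * p⁻¹ by
          rw [show (t' ≫ D.i) * (p * q) = (t' ≫ D.i) * p * q from (_root_.mul_assoc _ _ _).symm,
            show (t' ≫ D.i) * p * q * (t' ≫ D.i)⁻¹ = (t' ≫ D.i) * p * (t' ≫ D.i)⁻¹ * q by
              rw [_root_.mul_assoc _ q, show q * (t' ≫ D.i)⁻¹ = (t' ≫ D.i)⁻¹ * q by
                rw [eq_inv_mul_iff_mul_eq, ← _root_.mul_assoc, hqT, mul_inv_cancel_right], ← _root_.mul_assoc]]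
          group]
      exact mul_mem (hN.conj_mem p hp _) (inv_mem hp)
  by_cases hid : ∀ c, RedSub.wordPerm D.P L' c = c
  · have hw : wmap D L'.reverse = AddMonoidHom.id D.M := by
      have h0 : wmap D L' = AddMonoidHom.id D.M := wmap_eq_id_of_fixed L' hid
      have := wmap_reverse_comp (D := D) L'
      rwa [h0, AddMonoidHom.id_comp] at this
    obtain ⟨τ, hτ⟩ : ∃ τ : Y ⟶ D.T, τ ≫ D.i = n := by
      refine exists_torus_of_commute_torus fun Z q s => ?_
      have := Groth.Agent.H82.Bruhat.rep_rp hnr L' Y Z q s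
      rw [hw, act_id, mul_inv_eq_iff_eq_mul] at this
      exact this.symm
    rcases borcase _ hg'H (mul_mem hb'bor (hτ ▸ Groth.Agent.H82.Bruhat.torus_mem_bor l τ)) with h | h
    · exact Or.inl h
    · refine Or.inr ?_
      have e1 : g = b' * n := by
        have hc := isCentralPt_commute f h v
        calc g = v⁻¹ * (v * g * v⁻¹) * v := by group
          _ = _ := by rw [hg', _root_.mul_assoc, hc, inv_mul_cancel_left]
      rw [e1]; exact h
  · push Not at hid
    obtain ⟨c, hc⟩ := hid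
    obtain ⟨B, hB⟩ : ∃ lam : D.M →+ ℤ, lam (D.P.root c - D.P.root (RedSub.wordPerm D.P L' c)) ≠ 0 := by
      let B := Module.finBasis ℤ D.M
      by_contra hall
      push Not at hall
      exact hc (D.P.root.injective (sub_eq_zero.1 (B.forall_coord_eq_zero_iff.1 fun j =>
        hall (B.coord j).toAddMonoidHom)).symm)
    obtain ⟨z, hz⟩ := Groth.Agent.H82.Borel.exists_unit_zpow_ne hY.isField _ hB
    let t : Y ⟶ D.T := Gm.gmPt z ≫ cochar D B
    let s := act D (wmap D L') t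
    have hns : n * (s ≫ D.i) = (t ≫ D.i) * n := (Groth.Agent.H82.Bruhat.torus_rp hnr L' t).symm
    set h := (b' * n) * (s ≫ D.i) * (b' * n)⁻¹ * (s ≫ D.i)⁻¹ with hh
    have hhH : h ∈ H := by
      rw [hh, show (b' * n) * (s ≫ D.i) * (b' * n)⁻¹ * (s ≫ D.i)⁻¹ =
        (b' * n) * ((s ≫ D.i) * (b' * n)⁻¹ * (s ≫ D.i)⁻¹) by group]
      exact mul_mem hg'H (hN.conj_mem _ (inv_mem hg'H) _)
    have he : h = b' * (t ≫ D.i) * b'⁻¹ * (s ≫ D.i)⁻¹ := by
      rw [hh, _root_.mul_assoc b' n, hns]; group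
    obtain ⟨Lb, hLb⟩ := hb'bor
    have hlim : IsLimPt (gcochar D l) h ((t * s⁻¹) ≫ D.i) := by
      obtain ⟨τ, hτ⟩ := exists_torus_of_regular hA.ne (Groth.Agent.H82.Borel.commutes_of_isLimPt hLb)
      have h1 := ((hLb.mul (isLimPt_torus_pt (l := l) t)).mul hLb.inv).mul (isLimPt_torus_pt (l := l) s).inv
      rw [he]
      rwa [show Lb * (t ≫ D.i) * Lb⁻¹ * (s ≫ D.i)⁻¹ = (t * s⁻¹) ≫ D.i by
        rw [← hτ, ← MonObj.mul_comp, torus_comm D, MonObj.mul_comp, mul_inv_cancel_right, MonObj.mul_comp,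
          GrpObj.inv_comp]] at h1
    rcases borcase h hhH ⟨_, hlim⟩ with h' | ⟨τ, hτ, hτc⟩
    · exact Or.inl h'
    · exfalso
      haveI := Groth.Agent.H82.R2.Cent.isMonHom_chr (D := D) (D.P.root c)
      haveI : Mono D.i := D.maximalTorus.2.1
      have hτe : τ = t * s⁻¹ := (cancel_mono D.i).1
        (IsLimPt.unique (hτ ▸ isLimPt_torus_pt (l := l) τ) hlim)
      have h1 := hτc c
      rw [hτe, MonObj.mul_comp, Gm.gmFn_mul] at h1
      have h2 : Red.gmFn (t ≫ chr D (D.P.root c)) = Red.gmFn (s ≫ chr D (D.P.root c)) := by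
        have h3 : Red.gmFn (s⁻¹ ≫ chr D (D.P.root c)) * Red.gmFn (s ≫ chr D (D.P.root c)) = 1 := by
          rw [← Gm.gmFn_mul, ← MonObj.mul_comp, inv_mul_cancel, MonObj.one_comp, Gm.gmFn_one]
        calc _ = Red.gmFn (t ≫ chr D (D.P.root c)) * (Red.gmFn (s⁻¹ ≫ chr D (D.P.root c)) *
              Red.gmFn (s ≫ chr D (D.P.root c))) := by rw [h3, _root_.mul_one]
          _ = _ := by rw [← _root_.mul_assoc, h1, _root_.one_mul]
      rw [Groth.Agent.H82.Bruhat.gmFn_act_chr, Groth.Agent.H82.Bruhat.wmap_root, gmFn_cochar, gmFn_cochar] at h2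
      refine hz ?_
      rw [map_sub, zpow_sub, Units.ext h2, mul_inv_cancel, Units.val_one]

variable (D) in
/-- A normal subgroup containing a non-trivial root element contains all, if the roots are indecomposable. -/
theorem eq_top_of_root [Nonempty S] [LocallyOfFiniteType G.hom] (hF : FullRank D) (hI : Indec D) {K : Type u}
    [Field K] [IsAlgClosed K] (f : Spec (CommRingCat.of K) ⟶ S) (H : Subgroup (Over.mk f ⟶ G)) [hN : H.Normal]
    {a : D.idx} {x : Γ((Over.mk f).left, ⊤)} (hx : x ≠ 0) (hxH : P (D.u a) x ∈ H) : H = ⊤ := by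
  classical
  let Y : Over S := Over.mk f
  have hY : IsACPt Y := Groth.Agent.H82.Borel.isACPt_mk K f
  haveI := hY.infinite
  haveI := hY.isField.nontrivial
  haveI := hY.isField.isDomain
  obtain ⟨b⟩ := exists_base D
  haveI : D.P.IsReduced := Groth.Agent.H82.R2.reduced_of_base b
  obtain ⟨l, hA⟩ := Groth.Agent.H82.Bruhat.exists_adapted b
  obtain ⟨nr, hnr⟩ := exists_nr D
  let H' : Subgroup (Y ⟶ G) := H ⊔ Subgroup.closure (Set.range fun t : Y ⟶ D.T => t ≫ D.i)
  -- the torus scales root elements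
  have hall : ∀ c (y₀ : Γ(Y.left, ⊤)), y₀ ≠ 0 → P (D.u c) y₀ ∈ H → ∀ y, P (D.u c) y ∈ H := by
    intro c y₀ hy₀ hy₀H y
    by_cases hy : y = 0
    · rw [hy, P_zero]; exact one_mem H
    obtain ⟨t, ht⟩ := Groth.Agent.H82.Borel.exists_torus_scale hY _ (Groth.Agent.H82.Borel.coroot_root c) hy₀ hy
    have := hN.conj_mem _ hy₀H (t ≫ D.i)
    rwa [conj_torus, ht] at this
  let T₀ : Set D.idx := {c | ∀ y, P (D.u c) y ∈ H}
  have hneg : ∀ c ∈ T₀, D.P.reflectionPerm c c ∈ T₀ := by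
    intro c hc
    obtain ⟨x', hx'⟩ := Groth.Agent.H82.Bruhat.exists_conj_root [c] _
      (fun X => Groth.Agent.H82.Bruhat.rep_rp hnr [c] X) c (1 : Γ(Y.left, ⊤))
    rw [Groth.Agent.H82.Bruhat.wordPerm_singleton] at hx'
    have hx0 : x' ≠ 0 := fun h0 => by
      rw [h0, P_zero, mul_inv_eq_one, mul_eq_left] at hx'
      exact P_ne_one c one_ne_zero hx'
    exact hall _ _ hx0 (hx' ▸ hN.conj_mem _ (hc 1) _)
  have hco : ∀ c ∈ T₀, ∀ d, D.P.pairing d c ≠ 0 → d ∈ T₀ := by
    intro c hc d hd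
    obtain ⟨z, hz⟩ := Groth.Agent.H82.Borel.exists_unit_zpow_ne hY.isField _ hd
    have hh := coroot_mem b c H hc (hneg c hc) z
    haveI : IsMonHom (D.u d) := (D.rootHom d).1
    refine hall d _ (sub_ne_zero.2 hz) ?_
    have hmem := mul_mem hh (hN.conj_mem _ (inv_mem hh) (P (D.u d) 1))
    rw [← _root_.mul_assoc, ← _root_.mul_assoc, conj_torus, gmFn_cochar, ← P_neg] at hmem
    rw [sub_eq_add_neg, P_add]
    simpa [coroot_root_eq] using hmem
  have hu : ∀ c y, P (D.u c) y ∈ H := by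
    have := hI.2 T₀ fun p hp q hq => by_contra fun hne => hq (hco p hp q fun h0 => hne (pairing_zero_comm D h0))
    rcases this with h | h
    · exact absurd (show a ∈ T₀ from fun y => hall a x hx hxH y) (by rw [h]; simp)
    · exact fun c => (h ▸ Set.mem_univ c : c ∈ T₀)
  have hT := torus_mem_of_divisible hF b H hu fun n hn => by
    intro w
    let e : K ≃+* Γ(Y.left, ⊤) := (Scheme.ΓSpecIso (CommRingCat.of K)).symm.commRingCatIsoToRingEquiv
    obtain ⟨r, hr⟩ := IsAlgClosed.exists_pow_nat_eq (e.symm (w : Γ(Y.left, ⊤))) (Nat.pos_of_ne_zero hn)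
    have hr' : (e r) ^ n = (w : Γ(Y.left, ⊤)) := by rw [← map_pow, hr, RingEquiv.apply_symm_apply]
    have hu' : IsUnit (e r) := (isUnit_pow_iff hn).1 (hr' ▸ w.isUnit)
    exact ⟨hu'.unit, Units.ext (by simpa using hr')⟩
  refine eq_top_iff.2 fun g _ => ?_
  obtain ⟨n, m, e, e', -, -, -, -, ho⟩ := exists_cell hA.ne
  haveI := ho
  obtain ⟨z, z', hzz⟩ := exists_two_cells_pt (e := e) (e' := e') f g
  rw [hzz]
  exact mul_mem (cell_mem H hu hT e e' z) (cell_mem H hu hT e e' z')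

end Groth.Agent.Lib.H1.AlmostSimple
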