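import Groth.Agent.H82.Reduced.Main
import Groth.Agent.H82.Roots.Base
import Groth.Agent.H82.R2.Roots
import Mathlib.LinearAlgebra.RootSystem.Finite.Nondegenerate

/-!
Root data of full rank, orthogonal decompositions of the roots.
-/

set_option autoImplicit false
set_option linter.unusedSectionVars false
set_option linter.style.haveILetI false

universe u

open CategoryTheory MonoidalCategory CartesianMonoidalCategory MonObj GrpObj AlgebraicGeometry

namespace Groth.Agent.Lib.H1.AlmostSimple

variable {S : Scheme.{u}} {G : Over S} [GrpObj G] (D : Red.SplitRed G)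

/-- The roots span a subgroup of finite index of the character lattice. -/
def FullRank : Prop := ∀ m : D.M, ∃ d : ℤ, d ≠ 0 ∧ d • m ∈ Submodule.span ℤ (Set.range D.P.root)

theorem fullRank_of_finrank
    (h : Module.finrank ℤ ↥(Submodule.span ℤ (Set.range D.P.root)) = Module.finrank ℤ D.M) : FullRank D := fun m => by
  set L := Submodule.span ℤ (Set.range D.P.root)
  have hq : Module.finrank ℤ (D.M ⧸ L) = 0 := by
    have := L.finrank_quotient_add_finrank
    omega
  have ht : Module.IsTorsion ℤ (D.M ⧸ L) := Module.finrank_eq_zero_iff_isTorsion.1 hq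
  obtain ⟨⟨d, hd⟩, hdm⟩ := @ht (Submodule.Quotient.mk m)
  refine ⟨d, nonZeroDivisors.ne_zero hd, ?_⟩
  rw [← Submodule.Quotient.mk_eq_zero, Submodule.Quotient.mk_smul]
  exact hdm

theorem finrank_of_fullRank (h : FullRank D) :
    Module.finrank ℤ ↥(Submodule.span ℤ (Set.range D.P.root)) = Module.finrank ℤ D.M := by
  set L := Submodule.span ℤ (Set.range D.P.root)
  have hq : Module.finrank ℤ (D.M ⧸ L) = 0 := by
    refine Module.finrank_eq_zero_iff_isTorsion.2 fun {q} => ?_
    obtain ⟨m, rfl⟩ := Submodule.Quotient.mk_surjective L q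
    obtain ⟨d, hd, hm⟩ := h m
    exact ⟨⟨d, mem_nonZeroDivisors_of_ne_zero hd⟩, by
      rw [Submonoid.mk_smul, ← Submodule.Quotient.mk_smul, Submodule.Quotient.mk_eq_zero]; exact hm⟩
  have := L.finrank_quotient_add_finrank
  omega

theorem coroot_root_eq (c a : D.idx) : D.P.coroot a (D.P.root c) = D.P.pairing c a := by
  have := D.P.root_coroot_eq_pairing c a
  rw [D.pairing_eq] at this
  exact this

theorem eq_zero_of_smul {m : D.M} {d : ℤ} (hd : d ≠ 0) (h : d • m = 0) : m = 0 := by
  haveI : IsAddTorsionFree D.M := .of_isTorsionFree ℤ D.M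
  exact (smul_eq_zero.1 h).resolve_left hd

theorem eq_zero_of_coroots (h : FullRank D) {m : D.M} (hm : ∀ a, D.P.coroot a m = 0) : m = 0 := by
  obtain ⟨d, hd, hdm⟩ := h m
  refine eq_zero_of_smul D hd (D.P.eq_zero_of_mem_rootSpan_of_rootForm_self_eq_zero hdm ?_)
  rw [D.P.rootForm_apply_apply]
  refine Finset.sum_eq_zero fun a _ => ?_
  have e : D.P.coroot' a (d • m) = D.P.coroot a (d • m) := by
    show D.P.toLinearMap.flip (D.P.coroot a) (d • m) = _
    rw [LinearMap.flip_apply, D.pairing_eq]
    rfl
  rw [e, map_zsmul, hm a, smul_zero, mul_zero]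

theorem eq_zero_of_lam (h : FullRank D) {lam : D.M →+ ℤ} (hlam : ∀ a, lam (D.P.root a) = 0) : lam = 0 := by
  refine AddMonoidHom.ext fun m => ?_
  obtain ⟨d, hd, hdm⟩ := h m
  have h0 : ∀ x ∈ Submodule.span ℤ (Set.range D.P.root), lam.toIntLinearMap x = 0 := fun x hx => by
    induction hx using Submodule.span_induction with
    | mem x hx => obtain ⟨a, rfl⟩ := hx; exact hlam a
    | zero => simp
    | add x y _ _ hx hy => rw [map_add, hx, hy, add_zero]
    | smul c x _ hx => rw [map_smul, hx, smul_zero]
  have := h0 _ hdm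
  simp only [AddMonoidHom.coe_toIntLinearMap, map_zsmul, smul_eq_zero] at this
  exact this.resolve_left hd

/-- Without full rank there is a surjective functional killing the roots. -/
theorem exists_lam_of_not_fullRank (h : ¬FullRank D) :
    ∃ lam : D.M →+ ℤ, (∀ a, lam (D.P.root a) = 0) ∧ Function.Surjective lam := by
  classical
  simp only [FullRank, not_forall, not_exists, not_and] at h
  obtain ⟨m, hm⟩ := h
  set L := Submodule.span ℤ (Set.range D.P.root)
  let Q := (D.M ⧸ L) ⧸ Submodule.torsion ℤ (D.M ⧸ L)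
  haveI : Module.Free ℤ Q := Module.free_of_finite_type_torsion_free'
  let π : D.M →ₗ[ℤ] Q := (Submodule.mkQ _).comp L.mkQ
  have hne : π m ≠ 0 := by
    intro h0
    simp only [π, LinearMap.comp_apply, Submodule.mkQ_apply] at h0
    obtain ⟨⟨d, hd⟩, hdm⟩ := (Submodule.Quotient.mk_eq_zero _).1 h0
    rw [Submonoid.mk_smul, ← Submodule.Quotient.mk_smul, Submodule.Quotient.mk_eq_zero] at hdm
    exact hm d (nonZeroDivisors.ne_zero hd) hdm
  let B := Module.Free.chooseBasis ℤ Q
  obtain ⟨i⟩ : Nonempty (Module.Free.ChooseBasisIndex ℤ Q) := by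
    by_contra h'
    rw [not_nonempty_iff] at h'
    exact hne (B.ext_elem fun i => (h'.false i).elim)
  refine ⟨((B.coord i).comp π).toAddMonoidHom, fun a => ?_, fun n => ?_⟩
  · have : π (D.P.root a) = 0 := by
      simp only [π, LinearMap.comp_apply, Submodule.mkQ_apply]
      rw [(Submodule.Quotient.mk_eq_zero L).2 (Submodule.subset_span ⟨a, rfl⟩)]
      simp
    simp [this]
  · obtain ⟨x, hx⟩ := ((Submodule.mkQ_surjective _).comp L.mkQ_surjective) (n • B i)
    exact ⟨x, by simp only [LinearMap.toAddMonoidHom_coe, LinearMap.comp_apply, π]; rw [show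
      (Submodule.mkQ (Submodule.torsion ℤ (D.M ⧸ L))) (L.mkQ x) = n • B i from hx]; simp⟩

/-- The roots can be split into two mutually orthogonal parts only trivially. -/
def Indec : Prop :=
  Nonempty D.idx ∧ ∀ S : Set D.idx, (∀ a ∈ S, ∀ b ∉ S, D.P.pairing a b = 0) → (S = ∅ ∨ S = Set.univ)

theorem pairing_zero_comm {a b : D.idx} (h : D.P.pairing a b = 0) : D.P.pairing b a = 0 := by
  haveI : IsAddTorsionFree D.M := .of_isTorsionFree ℤ D.M
  exact D.P.pairing_eq_zero_iff.1 h

theorem pairing_self (a : D.idx) : D.P.pairing a a = 2 := D.P.pairing_same a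

/-- Roots on the two sides of an orthogonal splitting do not add up to a root or zero. -/
theorem not_add {T : Set D.idx} (hT : ∀ a ∈ T, ∀ b ∉ T, D.P.pairing a b = 0) {a b : D.idx} (ha : a ∈ T)
    (hb : b ∉ T) : D.P.root a + D.P.root b ≠ 0 ∧ D.P.root a + D.P.root b ∉ Set.range D.P.root := by
  have h1 := hT a ha b hb
  have h2 := pairing_zero_comm D h1
  refine ⟨fun h0 => ?_, fun ⟨c, hc⟩ => ?_⟩
  · have := congrArg (D.P.coroot b) h0
    rw [map_add, map_zero, coroot_root_eq, coroot_root_eq, h1, pairing_self] at this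
    omega
  · by_cases hcT : c ∈ T
    · have := congrArg (D.P.coroot b) hc
      rw [map_add, coroot_root_eq, coroot_root_eq, coroot_root_eq, h1, pairing_self, hT c hcT b hb] at this
      omega
    · have := congrArg (D.P.coroot a) hc
      rw [map_add, coroot_root_eq, coroot_root_eq, coroot_root_eq, h2, pairing_self,
        pairing_zero_comm D (hT a ha c hcT)] at this
      omega

theorem exists_base [Nonempty S] : Nonempty D.P.Base := by
  haveI := Groth.Agent.H82.Reduced.isReduced D
  haveI : D.P.IsCrystallographic := Groth.Agent.H82.R2.crys D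
  haveI : IsAddTorsionFree D.M := .of_isTorsionFree ℤ D.M
  exact Groth.Agent.H82.Roots.nonempty_base

end Groth.Agent.Lib.H1.AlmostSimple
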