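import Groth.Agent.Lib.H1.AlmostSimple.Normal
import Groth.Agent.Lib.GrpQ.MonoClosed
import Groth.Agent.Lib.Tori.Comm
import Groth.Agent.Lib.GrpSch.BaseChange
import Mathlib.RingTheory.RootsOfUnity.Basic

/-!
Smooth connected normal subgroups of split groups with roots of full rank.
-/

set_option autoImplicit false
set_option maxHeartbeats 800000
set_option linter.style.haveILetI false
set_option linter.unusedSectionVars false
universe u

open CategoryTheory MonoidalCategory CartesianMonoidalCategory MonObj GrpObj AlgebraicGeometry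
open Groth.Agent.Lib.RedPts Groth.Agent.H82.BigCell Groth.Agent.H82.Contract Groth.Agent.H82.Weyl
open Groth.Agent.H82.RankOne (P P_eq P_add P_zero P_neg P_comp)

namespace Groth.Agent.Lib.H1.AlmostSimple

section Pts

variable {S : Scheme.{u}} {G : Over S} [GrpObj G] {D : Red.SplitRed G} [Nonempty S] [LocallyOfFiniteType G.hom]
  {K : Type u} [Field K] [IsAlgClosed K] (f : Spec (CommRingCat.of K) ⟶ S)

theorem dichotomy (hF : FullRank D) (hI : Indec D) (H : Subgroup (Over.mk f ⟶ G)) [H.Normal] :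
    H = ⊤ ∨ ∀ g ∈ H, IsCentralPt D g := by
  obtain ⟨b⟩ := exists_base D
  obtain ⟨l, hA⟩ := Groth.Agent.H82.Bruhat.exists_adapted b
  by_cases h : ∃ (a : D.idx) (x : Γ((Over.mk f).left, ⊤)), x ≠ 0 ∧ P (D.u a) x ∈ H
  · obtain ⟨a, x, hx, hxH⟩ := h
    exact Or.inl (eq_top_of_root D hF hI f H hx hxH)
  · exact Or.inr fun g hg => (root_or_central hA f H hg).resolve_left h

theorem central_of_comm (hF : FullRank D) (H : Subgroup (Over.mk f ⟶ G)) [hN : H.Normal]
    (hc : ∀ g ∈ H, ∀ h ∈ H, g * h = h * g) : ∀ g ∈ H, IsCentralPt D g := by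
  intro g hg
  obtain ⟨b⟩ := exists_base D
  obtain ⟨l, hA⟩ := Groth.Agent.H82.Bruhat.exists_adapted b
  haveI : D.P.IsReduced := Groth.Agent.H82.R2.reduced_of_base b
  refine (root_or_central hA f H hg).resolve_left ?_
  rintro ⟨a, x, hx, hxH⟩
  have hY := Groth.Agent.H82.Borel.isACPt_mk (S := S) K f
  haveI := hY.infinite
  haveI := hY.isField.nontrivial
  obtain ⟨nr, hnr⟩ := exists_nr D
  have hall : ∀ c (y₀ : Γ((Over.mk f).left, ⊤)), y₀ ≠ 0 → P (D.u c) y₀ ∈ H → ∀ y, P (D.u c) y ∈ H := by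
    intro c y₀ hy₀ hy₀H y
    by_cases hy : y = 0
    · rw [hy, P_zero]; exact one_mem H
    obtain ⟨t, ht⟩ := Groth.Agent.H82.Borel.exists_torus_scale hY _ (Groth.Agent.H82.Borel.coroot_root c) hy₀ hy
    have := hN.conj_mem _ hy₀H (t ≫ D.i)
    rwa [conj_torus, ht] at this
  obtain ⟨x', hx'⟩ := Groth.Agent.H82.Bruhat.exists_conj_root [a] _
    (fun X => Groth.Agent.H82.Bruhat.rep_rp hnr [a] X) a (1 : Γ((Over.mk f).left, ⊤))
  rw [Groth.Agent.H82.Bruhat.wordPerm_singleton] at hx'
  have hx0 : x' ≠ 0 := fun h0 => by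
    rw [h0, P_zero, mul_inv_eq_one, mul_eq_left] at hx'
    exact P_ne_one a one_ne_zero hx'
  have hneg := hall _ _ hx0 (hx' ▸ hN.conj_mem _ (hall a x hx hxH 1) _)
  obtain ⟨z, hz⟩ := Groth.Agent.H82.Borel.exists_unit_zpow_ne hY.isField (2 : ℤ) two_ne_zero
  have h1 := hc _ (coroot_mem b a H (hall a x hx hxH) hneg z) _ (hall a x hx hxH 1)
  rw [← mul_inv_eq_iff_eq_mul, conj_torus, gmFn_cochar, Groth.Agent.H82.Borel.coroot_root, _root_.mul_one] at h1
  haveI : IsMonHom (D.u a) := (D.rootHom a).1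
  have h2 : P (D.u a) (((z ^ (2 : ℤ) : Γ((Over.mk f).left, ⊤)ˣ) : Γ((Over.mk f).left, ⊤)) - 1) = 1 := by
    rw [sub_eq_add_neg, P_add, h1, ← P_add, add_neg_cancel, P_zero]
  exact P_ne_one a (sub_ne_zero.2 hz) h2

/-- The centre has finitely many geometric points. -/
theorem centralPts_finite (hF : FullRank D) : {g : Over.mk f ⟶ G | IsCentralPt D g}.Finite := by
  classical
  have hY := Groth.Agent.H82.Borel.isACPt_mk (S := S) K f
  haveI := hY.isField.isDomain
  let B := Module.finBasis ℤ D.M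
  choose d hd hdm using fun j => hF (B j)
  let N := fun j => (d j).natAbs
  let φ : {τ : Over.mk f ⟶ D.T // ∀ a, Red.gmFn (τ ≫ chr D (D.P.root a)) = 1} →
      (∀ j, rootsOfUnity (N j) Γ((Over.mk f).left, ⊤)) := fun τ j =>
    ⟨(Gm.isUnit_gmFn (τ.1 ≫ chr D (B j))).unit, by
      let χ : D.M →+ Additive Γ((Over.mk f).left, ⊤)ˣ :=
        AddMonoidHom.mk' (fun m => Additive.ofMul (Gm.isUnit_gmFn (τ.1 ≫ chr D m)).unit) fun a c => by
          rw [← ofMul_mul]
          refine congrArg Additive.ofMul (Units.ext ?_)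
          simp only [IsUnit.unit_spec, Units.val_mul, chr]
          simp only [← Category.assoc, Gm.gmFn_chi, Gm.dsFn_add]
      have h0 : χ (d j • B j) = 0 := by
        have hj := hdm j
        generalize d j • B j = y at hj ⊢
        induction hj using Submodule.span_induction with
        | mem x hx => obtain ⟨a, rfl⟩ := hx; exact congrArg Additive.ofMul (Units.ext (τ.2 a))
        | zero => simp
        | add x y _ _ hx hy => rw [map_add, hx, hy, add_zero]
        | smul c x _ hx => rw [map_zsmul, hx, smul_zero]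
      rw [map_zsmul] at h0
      rw [mem_rootsOfUnity]
      exact pow_natAbs_eq_one.2 (congrArg Additive.toMul h0)⟩
  haveI : ∀ j, NeZero (N j) := fun j => ⟨Int.natAbs_ne_zero.2 (hd j)⟩
  have hφ : Function.Injective φ := by
    rintro ⟨τ, hτ⟩ ⟨τ', hτ'⟩ e
    refine Subtype.ext (Groth.Agent.H82.Reduced.eq_of_chr fun m => ?_)
    let χ := fun (s : Over.mk f ⟶ D.T) => AddMonoidHom.mk' (fun m => Additive.ofMul (Gm.isUnit_gmFn (s ≫ chr D m)).unit)
      fun a c => by
        rw [← ofMul_mul]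
        refine congrArg Additive.ofMul (Units.ext ?_)
        simp only [IsUnit.unit_spec, Units.val_mul, chr]
        simp only [← Category.assoc, Gm.gmFn_chi, Gm.dsFn_add]
    have : (χ τ).toIntLinearMap = (χ τ').toIntLinearMap :=
      B.ext fun j => congrArg (fun x => Additive.ofMul (x : Γ((Over.mk f).left, ⊤)ˣ)) (congrArg Subtype.val (congrFun e j))
    exact congrArg (fun x => ((Additive.toMul x : Γ((Over.mk f).left, ⊤)ˣ) : Γ((Over.mk f).left, ⊤)))
      (LinearMap.congr_fun this m)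
  haveI : Finite {τ : Over.mk f ⟶ D.T // ∀ a, Red.gmFn (τ ≫ chr D (D.P.root a)) = 1} := Finite.of_injective φ hφ
  refine (Set.finite_range fun τ : {τ : Over.mk f ⟶ D.T // ∀ a, Red.gmFn (τ ≫ chr D (D.P.root a)) = 1} =>
    τ.1 ≫ D.i).subset ?_
  rintro g ⟨τ, rfl, hτ⟩
  exact ⟨⟨τ, hτ⟩, rfl⟩

theorem exists_not_comm (a : D.idx) : ∃ g h : Over.mk f ⟶ G, g * h ≠ h * g := by
  have hY := Groth.Agent.H82.Borel.isACPt_mk (S := S) K f
  haveI := hY.infinite
  haveI := hY.isField.nontrivial
  obtain ⟨z, hz⟩ := Groth.Agent.H82.Borel.exists_unit_zpow_ne hY.isField (2 : ℤ) two_ne_zero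
  refine ⟨(Gm.gmPt z ≫ cochar D (D.P.coroot a).toAddMonoidHom) ≫ D.i, P (D.u a) 1, fun h1 => ?_⟩
  rw [← mul_inv_eq_iff_eq_mul, conj_torus, gmFn_cochar, Groth.Agent.H82.Borel.coroot_root, _root_.mul_one] at h1
  haveI : IsMonHom (D.u a) := (D.rootHom a).1
  refine P_ne_one a (sub_ne_zero.2 hz) (X := Over.mk f) ?_
  rw [sub_eq_add_neg, P_add, h1, ← P_add, add_neg_cancel, P_zero]

end Pts

section Sch

variable {k : Type u} [Field k] {K : Type u} [Field K] [IsAlgClosed K]
  (f : Spec (CommRingCat.of K) ⟶ Spec (CommRingCat.of k))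

theorem exists_pt_left_mem {X : Over (Spec (CommRingCat.of k))} [GrpObj X] [LocallyOfFiniteType X.hom] {Z : Set X.left}
    (hne : Z.Nonempty) (hZ : IsLocallyClosed Z) : ∃ g : Over.mk f ⟶ X, g.left (IsLocalRing.closedPoint K) ∈ Z := by
  haveI : Subsingleton (Spec (CommRingCat.of k)) := inferInstanceAs (Subsingleton (PrimeSpectrum k))
  haveI hs : Surjective f := ⟨fun x => ⟨IsLocalRing.closedPoint K, Subsingleton.elim _ _⟩⟩
  haveI : Surjective (fst X (Over.mk f)).left := GrpSch.fst_left_of (P := @Surjective) X hs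
  obtain ⟨x, hx⟩ := hne
  obtain ⟨q, hq⟩ := (fst X (Over.mk f)).left.surjective x
  obtain ⟨g, hg⟩ := Groth.Agent.Lib.ActSep.exists_pt_mem (G := X) f
    (Z := (fst X (Over.mk f)).left ⁻¹' Z) ⟨q, by rw [Set.mem_preimage, hq]; exact hx⟩
    (hZ.preimage (fst X (Over.mk f)).left.continuous)
  refine ⟨g, ?_⟩
  have e : lift g (𝟙 (Over.mk f)) ≫ fst X (Over.mk f) = g := lift_fst _ _
  rw [← e]
  exact hg

theorem isIso_of_pts {N G : Over (Spec (CommRingCat.of k))} [GrpObj G] [LocallyOfFiniteType G.hom]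
    [IsReduced G.left] (i : N ⟶ G) [IsClosedImmersion i.left] (h : ∀ g : Over.mk f ⟶ G, ∃ n, n ≫ i = g) :
    IsIso i := by
  haveI : Surjective i.left := by
    refine ⟨fun x => by_contra fun hx => ?_⟩
    obtain ⟨g, hg⟩ := exists_pt_left_mem f (X := G) (Z := (Set.range i.left)ᶜ) ⟨x, hx⟩
      i.left.isClosedEmbedding.isClosed_range.isOpen_compl.isLocallyClosed
    obtain ⟨n, rfl⟩ := h g
    exact hg ⟨n.left (IsLocalRing.closedPoint K), rfl⟩
  haveI : IsIso i.left := isIso_of_isClosedImmersion_of_surjective i.left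
  haveI : IsIso ((Over.forget _).map i) := this
  exact isIso_of_reflects_iso i (Over.forget _)

theorem trivial_of_finite {N : Over (Spec (CommRingCat.of k))} [GrpObj N] [Smooth N.hom] [ConnectedSpace N.left]
    [h : Finite (Over.mk f ⟶ N)] : Red.IsTrivialGrp N := by
  haveI : JacobsonSpace N.left := LocallyOfFiniteType.jacobsonSpace N.hom
  let p : (Over.mk f ⟶ N) → N.left := fun g => g.left (IsLocalRing.closedPoint K)
  have hc : closedPoints N.left ⊆ Set.range p := fun x hx => by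
    obtain ⟨g, hg⟩ := exists_pt_left_mem f (X := N) (Z := {x}) ⟨x, rfl⟩ (IsClosed.isLocallyClosed hx)
    exact ⟨g, hg⟩
  have hfin : (closedPoints N.left).Finite := (Set.finite_range p).subset hc
  have hcl : IsClosed (closedPoints N.left) := by
    rw [← Set.biUnion_of_singleton (closedPoints N.left)]
    exact hfin.isClosed_biUnion fun x hx => hx
  have hu : closedPoints N.left = Set.univ := by
    rw [← hcl.closure_eq]; exact closure_closedPoints
  haveI : Finite N.left := Set.finite_univ_iff.1 (hu ▸ hfin)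
  haveI : T1Space N.left := ⟨fun x => show x ∈ closedPoints N.left by rw [hu]; trivial⟩
  haveI : Subsingleton N.left := PreconnectedSpace.trivial_of_discrete
  haveI : IsReduced N.left := GrpSch.isReduced_of_smooth_field N.hom
  haveI : IsSeparated N.hom := GrpSch.isSeparated_of_field N
  haveI : IsClosedImmersion η[N].left := GrpSch.isClosedImmersion_η N
  haveI : Surjective η[N].left := ⟨fun x => ⟨(IsLocalRing.closedPoint k : PrimeSpectrum k), Subsingleton.elim _ _⟩⟩
  haveI : IsIso η[N].left := isIso_of_isClosedImmersion_of_surjective η[N].left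
  have e : N.hom = inv η[N].left := IsIso.eq_inv_of_hom_inv_id (GrpSch.η_left_comp_hom (G := N))
  show IsIso N.hom
  rw [e]
  infer_instance

theorem finite_pts {N G : Over (Spec (CommRingCat.of k))} [GrpObj G] (i : N ⟶ G) [IsClosedImmersion i.left]
    {Z : Set (Over.mk f ⟶ G)} (hZ : Z.Finite) (h : ∀ n : Over.mk f ⟶ N, n ≫ i ∈ Z) : Finite (Over.mk f ⟶ N) := by
  haveI := hZ.to_subtype
  haveI : Mono i := mono_of_isClosedImmersion _ ‹_›
  exact Finite.of_injective (fun n => (⟨n ≫ i, h n⟩ : Z)) fun a c e => (cancel_mono i).1 (congrArg Subtype.val e)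

end Sch

end Groth.Agent.Lib.H1.AlmostSimple
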